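import Cfsg.Agent.CpAutSuz.Gen
import Cfsg.Agent.SuzThree.GoodX
import Cfsg.Agent.SuzThree.CentCard
import Cfsg.Agent.KFacts.SuzTL
set_option linter.all false

/-!
# The Suzuki group: elements of order 3 commuting with an involution (helper24)

* `exists_conj_inv` : an involution is conjugate to `z0 = a` or to `e0 = e`;
* `conj_of_z0` : an element of order 3 commuting with `z0` is conjugate to `y0` or to `z1`;
* `conj_of_e0` : an element of order 3 commuting with `e0` is conjugate to `t1`;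
* `card_two_of_e0` : a 2-group commuting with `e0` all of whose involutions are conjugate to `e0` has order at most 8.
-/

set_option autoImplicit false
set_option maxRecDepth 100000
set_option exponentiation.threshold 4000

namespace Cfsg.Agent.CpAutSuz.Classes

open Subgroup Cfsg
open Cfsg.Spor (Suz)
open Cfsg.Agent.Lib.PermNet Cfsg.Agent.Lib.PermNetOrbit Cfsg.Agent.SporadicRecognition.SuzPhi
  Cfsg.Agent.SporadicRecognition.SuzBound Cfsg.Agent.SporadicRecognition.SuzOrder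
  Cfsg.Agent.SuzThree.Nets Cfsg.Agent.SuzThree.Basic Cfsg.Agent.SuzThree.Elts
open Cfsg.Agent.SuzThree.Elementary (rep_pow cube_A0 x_mem)
open Cfsg.Agent.SuzThree.CentA (cl el_mem_cl cl_le cl_mono C1 mem_C1 z0)
open Cfsg.Agent.SuzThree.CentCard (card_C1)
open Cfsg.Agent.SuzThree.ThreeWr
open Cfsg.Agent.SuzThree.GoodX (exists_conj_le)
open Cfsg.Agent.KFacts.SuzLFour (L e0 word_mem_L)
open Cfsg.Agent.KFacts.SuzTwoB (CE mem_CE card_CE card_L conj_L L_le VL_le)
open Cfsg.Agent.KFacts.SuzTL (TL TL_le TLS gsL pc_L mem_TLS)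
open Cfsg.Agent.SporRec.SuzCl (Fx card_Fx_conj pr exists_pr)
open Cfsg.Agent.CpAutSuz.Fix Cfsg.Agent.CpAutSuz.Gen

/-! ### Involutions -/

theorem exists_conj_inv {t : Suz} (ht : orderOf t = 2) : (∃ g : Suz, g * z0 * g⁻¹ = t) ∨ ∃ g : Suz, g * e0 * g⁻¹ = t := by
  have h2 : t * t = 1 := by rw [← pow_two, ← ht, pow_orderOf_eq_one]
  have h1 : t ≠ 1 := by
    rintro rfl
    rw [orderOf_one] at ht
    omega
  rcases SporRec.SuzCl.two t h2 h1 with ⟨g, hg⟩ | ⟨g, hg⟩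
  · left
    rw [SuzThree.CentCard.z0_eq]
    exact ⟨g, hg⟩
  · right
    have h3 : SporRec.SuzCl.ie = e0 := by
      show _ = ([Suz.Gen.e].map fun x => (PresentedGroup.of x : Suz)).prod
      rw [List.map_cons, List.map_nil, List.prod_cons, List.prod_nil, mul_one]
      rfl
    rw [← h3]
    exact ⟨g, hg⟩

theorem exists_mem {G : Type*} [Group G] [Finite G] {C S : Subgroup G} {p : ℕ} (hp : p.Prime) (hS : IsPGroup p S)
    (hidx : ¬ p ∣ S.relIndex C) {x : G} (hx : orderOf x = p) (hxC : x ∈ C) : ∃ c ∈ C, c * x * c⁻¹ ∈ S := by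
  have : Fact p.Prime := ⟨hp⟩
  obtain ⟨c, hc, h⟩ := exists_conj_le (X := zpowers x) (zpowers_le.2 hxC) hS
    (IsPGroup.of_card (n := 1) (by rw [Nat.card_zpowers, hx, pow_one])) hidx
  exact ⟨c, hc, h ⟨x, mem_zpowers x, rfl⟩⟩

theorem orderOf_conj {G : Type*} [Group G] (c x : G) : orderOf (c * x * c⁻¹) = orderOf x := by
  have h := (MulAut.conj c).orderOf_eq x
  exact h

theorem relIndex_mul {G : Type*} [Group G] {A B : Subgroup G} (h : A ≤ B) :
    Nat.card A * A.relIndex B = Nat.card B := by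
  rw [← Subgroup.relIndex_bot_left, ← Subgroup.relIndex_bot_left]
  exact Subgroup.relIndex_mul_relIndex ⊥ A B bot_le h

/-! ### Elements of order 3 commuting with `z0` -/

/-- the product of the first two special elements -/
noncomputable def z1 : Suz := x .i0 * x .i1

theorem rep_z1 : Rep z1 [x0N, x1N] := (rep_x .i0).mul (rep_x .i1)

/-- conjugators: exponents, word, exponent of `w`, class -/
def tab : List (ℕ × ℕ × ℕ × ℕ × List Suz.Gen × ℕ × Bool) := [
  (1, 0, 0, 0, [], 0, true),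
  (2, 0, 0, 0, [.d], 0, true),
  (0, 1, 0, 0, [.d, .e, .d, .c, .b, .a, .d, .c, .b, .d, .e, .d, .f, .g, .b, .a, .c, .b, .d, .c, .d, .e, .f, .b], 0, true),
  (1, 1, 0, 0, [.a, .c, .b, .g, .b, .a, .b, .g], 0, false),
  (2, 1, 0, 0, [.a, .c, .b, .d, .c, .b, .g, .b], 0, false),
  (0, 2, 0, 0, [.e, .d, .c, .b, .a, .d, .c, .b, .d, .e, .d, .f, .g, .b, .a, .c, .b, .d, .c, .d, .e, .f, .b], 0, true),
  (1, 2, 0, 0, [.b, .c, .b, .a, .f, .b], 0, false),
  (2, 2, 0, 0, [.b, .c, .b, .a, .d, .f, .b, .c], 0, false),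
  (0, 0, 1, 0, [.e, .d, .c, .b, .d, .c, .d, .e, .d, .c, .d, .g, .f, .b, .a, .c, .b, .a, .b, .d, .c, .e], 0, true),
  (1, 0, 1, 0, [.b, .a, .b, .c], 0, false),
  (2, 0, 1, 0, [.a, .f, .b, .c, .d, .c, .g, .b], 0, false),
  (0, 1, 1, 0, [.b, .d, .e, .d, .c, .b, .d, .c, .d, .e, .d, .g, .f, .b, .c, .d, .c, .b, .f, .c, .d, .e, .c, .a, .b], 0, false),
  (1, 1, 1, 0, [.b, .d, .e, .d, .c, .b, .d, .c, .d, .e, .d, .g, .f, .b, .c, .d, .c, .b, .f, .c, .b, .g, .d, .e, .b, .a, .b], 0, false),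
  (2, 1, 1, 0, [.c, .e, .d, .c, .d, .e, .g, .b, .c, .d, .e, .f, .g, .b, .c, .d, .c, .b, .f, .c, .d, .e, .d], 0, false),
  (0, 2, 1, 0, [.a, .c, .b, .d, .c, .b, .g, .b], 2, false),
  (1, 2, 1, 0, [.e, .d, .c, .f, .b, .c, .d, .c, .b, .d, .g, .f, .b, .g, .e, .c, .d, .c, .d, .b, .c, .d, .e], 0, false),
  (2, 2, 1, 0, [.e, .d, .c, .d, .e, .g, .b, .c, .d, .c, .e, .d, .f, .g, .b, .c, .d, .c, .b, .f, .g, .e, .b], 2, false),
  (0, 0, 2, 0, [.d, .e, .d, .c, .b, .d, .c, .d, .e, .d, .c, .d, .g, .f, .b, .a, .c, .b, .a, .b, .d, .c, .e], 0, true),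
  (1, 0, 2, 0, [.c, .b, .d, .c, .d, .g, .b, .c], 0, false),
  (2, 0, 2, 0, [.b, .a, .b, .c, .d], 0, false),
  (0, 1, 2, 0, [.b, .c, .b, .a, .f, .b], 2, false),
  (1, 1, 2, 0, [.c, .e, .d, .c, .d, .e, .g, .b, .c, .d, .e, .f, .g, .b, .c, .d, .c, .b, .g, .c, .d, .e], 0, false),
  (2, 1, 2, 0, [.e, .d, .c, .d, .e, .g, .b, .c, .d, .c, .e, .d, .f, .g, .b, .c, .d, .c, .b, .f, .g, .e, .b], 0, false),
  (0, 2, 2, 0, [.b, .c, .b, .a, .d, .f, .b, .c], 2, false),
  (1, 2, 2, 0, [.e, .d, .c, .d, .e, .g, .b, .c, .d, .c, .e, .d, .f, .g, .b, .c, .d, .c, .b, .f, .g, .e, .b], 1, false),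
  (2, 2, 2, 0, [.a, .d, .f, .b, .a, .b, .a, .f, .b, .d, .e, .d, .c, .b, .d, .c, .d, .e, .d, .g, .f, .b, .c, .d, .c, .b, .f, .c, .b, .g, .d, .e, .b, .a, .b], 0, false),
  (0, 0, 0, 1, [.e, .d, .c, .d, .e, .g, .b, .c, .d, .f, .b, .c, .d, .c, .b, .f, .c, .d, .b, .c], 0, false),
  (2, 1, 0, 1, [.c, .d, .c, .b, .e, .d, .c, .b, .a, .f, .b, .c, .d, .c, .d, .e, .d, .b], 0, false),
  (1, 2, 0, 1, [.e, .d, .c, .b, .d, .c, .b, .e, .d, .f, .b, .c, .g], 0, false),
  (2, 0, 1, 1, [.a, .e, .g, .b, .a, .b, .c, .d, .c, .b, .d, .c, .g, .b, .f, .e], 0, false),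
  (1, 1, 1, 1, [.d, .e, .d, .c, .b, .d, .g, .f, .b, .a, .b, .c, .f, .b, .g, .d, .e, .d, .c, .d], 0, false),
  (0, 2, 1, 1, [.a, .e, .d, .f, .b, .a, .b, .c, .d, .e, .g, .b, .c, .d, .c, .b, .g, .b, .c, .d, .c, .b], 0, false),
  (1, 0, 2, 1, [.d, .e, .d, .c, .d, .e, .f, .g, .b, .c, .d, .c, .b, .g, .b, .c, .d, .c, .b], 0, false),
  (0, 1, 2, 1, [.d, .c, .e, .d, .c, .b, .d, .c, .e, .g, .b, .c, .f], 0, false),
  (2, 2, 2, 1, [.b, .e, .f, .b, .c, .d, .c, .b, .a, .g, .b, .c, .d, .c, .d, .e, .d, .b, .c, .d, .c], 0, false),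
  (0, 0, 0, 2, [.e, .d, .c, .d, .e, .g, .b, .a, .b, .c, .b, .d, .f, .g, .c, .b, .f, .g, .d, .c, .d, .b], 0, false),
  (2, 1, 0, 2, [.c, .e, .d, .c, .b, .d, .c, .e, .d, .f, .b, .c, .g], 0, false),
  (1, 2, 0, 2, [.d, .e, .d, .c, .d, .e, .g, .f, .b, .c, .d, .c, .b, .g, .b, .c, .d, .c, .b], 0, false),
  (2, 0, 1, 2, [.c, .e, .d, .c, .d, .g, .b, .a, .b, .f, .b, .c, .d, .e, .d, .a, .b], 0, false),
  (1, 1, 1, 2, [.a, .e, .d, .c, .d, .e, .g, .b, .c, .d, .f, .b, .c, .d, .c, .b, .f, .c, .d, .b, .c], 0, false),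
  (0, 2, 1, 2, [.d, .e, .d, .c, .b, .d, .c, .b, .e, .g, .b, .c, .f], 0, false),
  (1, 0, 2, 2, [.e, .d, .c, .b, .d, .c, .b, .e, .d, .c, .f, .g, .b, .c, .a, .b, .g, .c, .b], 0, false),
  (0, 1, 2, 2, [.c, .d, .e, .d, .c, .b, .f, .b, .a, .b, .c, .b, .d, .c, .d, .e, .d, .b], 0, false),
  (2, 2, 2, 2, [.d, .c, .d, .c, .e, .d, .c, .b, .a, .g, .b, .c, .d, .c, .d, .e, .d, .b, .c, .d], 0, false)]

/-- networks of the conjugator -/
noncomputable def cj (u : List Suz.Gen) (n : ℕ) : List Net := wd u ++ List.replicate n wN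

/-- networks of the representative -/
noncomputable def tg (b : Bool) : List Net := Bool.rec [x0N, x1N] [x0N] b

/-- the representative -/
noncomputable def tge (b : Bool) : Suz := Bool.rec z1 y0 b

theorem rep_tg (b : Bool) : Rep (tge b) (tg b) := by
  cases b
  · exact rep_z1
  · exact rep_y0

/-- the check for one entry -/
noncomputable def chkT (t : ℕ × ℕ × ℕ × ℕ × List Suz.Gen × ℕ × Bool) : Bool :=
  checkEq 11 (cj t.2.2.2.2.1 t.2.2.2.2.2.1 ++ prn t.1 t.2.1 t.2.2.1 t.2.2.2.1)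
    (tg t.2.2.2.2.2.2 ++ cj t.2.2.2.2.1 t.2.2.2.2.2.1)

theorem chkT_all : ∀ t ∈ tab, chkT t = true := by decide +kernel

theorem of_tab {i j k l : ℕ} {u : List Suz.Gen} {n : ℕ} {b : Bool} (h : (i, j, k, l, u, n, b) ∈ tab) :
    el u * w ^ n * Pr i j k l * (el u * w ^ n)⁻¹ = tge b := by
  have h1 := chkT_all _ h
  have hr : Rep (el u * w ^ n) (cj u n) := (Rep.el u).mul (rep_pow rep_w n)
  have h2 := eq_of_reps (hr.mul (rep_Pr i j k l)) ((rep_tg b).mul hr) h1
  rw [h2]; group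

/-- the entries cover the elements of order 3 -/
noncomputable def cov (i j k l : ℕ) : Bool :=
  or (and (and (Nat.beq i 0) (Nat.beq j 0)) (and (Nat.beq k 0) (Nat.beq l 0)))
    (or (not (Nat.beq (appWord (prn i j k l ++ prn i j k l ++ prn i j k l) (Nat.pow 2 0)) (Nat.pow 2 0)))
      (tab.any fun t => and (and (Nat.beq t.1 i) (Nat.beq t.2.1 j)) (and (Nat.beq t.2.2.1 k) (Nat.beq t.2.2.2.1 l))))

theorem cov_all : ∀ i < 3, ∀ j < 3, ∀ k < 3, ∀ l < 3, cov i j k l = true := by decide +kernel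

theorem conj_of_Pr {i j k l : ℕ} (hi : i < 3) (hj : j < 3) (hk : k < 3) (hl : l < 3)
    (h3 : orderOf (Pr i j k l) = 3) : ∃ (g : Suz) (b : Bool), g * Pr i j k l * g⁻¹ = tge b := by
  have h := cov_all i hi j hj k hk l hl
  unfold cov at h
  rw [Bool.or_eq_true, Bool.or_eq_true] at h
  have hp3 : Pr i j k l ^ 3 = 1 := by rw [← h3, pow_orderOf_eq_one]
  rcases h with h | h | h
  · exfalso
    simp only [Bool.and_eq_true] at h
    obtain ⟨⟨h1, h2⟩, h4, h5⟩ := h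
    have e1 := Nat.eq_of_beq_eq_true h1
    have e2 := Nat.eq_of_beq_eq_true h2
    have e3 := Nat.eq_of_beq_eq_true h4
    have e4 := Nat.eq_of_beq_eq_true h5
    subst e1 e2 e3 e4
    rw [Pr, pow_zero, pow_zero, pow_zero, pow_zero, one_mul, one_mul, one_mul, orderOf_one] at h3
    omega
  · exfalso
    have h1 : mv (prn i j k l ++ prn i j k l ++ prn i j k l) 0 0 = true := by
      have hr := ((rep_Pr i j k l).mul (rep_Pr i j k l)).mul (rep_Pr i j k l)
      have h2 : wperm (prn i j k l ++ prn i j k l ++ prn i j k l) = 1 := by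
        rw [← hr.eq, ← pow_two, ← pow_succ, hp3, map_one]
      have h4 : appWord (prn i j k l ++ prn i j k l ++ prn i j k l) (2 ^ 0) = 2 ^ 0 := by
        apply Nat.eq_of_testBit_eq
        intro p
        rw [testBit_appWord hr.ok, h2]; rfl
      show Nat.beq _ _ = true
      rw [show appWord (prn i j k l ++ prn i j k l ++ prn i j k l) (Nat.pow 2 0) = Nat.pow 2 0 from h4]
      exact Nat.beq_refl _
    have h2 : Nat.beq (appWord (prn i j k l ++ prn i j k l ++ prn i j k l) (Nat.pow 2 0))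
      (Nat.pow 2 0) = true := h1
    rw [h2] at h
    exact absurd h (by simp)
  · rw [List.any_eq_true] at h
    obtain ⟨⟨i', j', k', l', u, n, b⟩, ht, h⟩ := h
    simp only [Bool.and_eq_true] at h
    obtain ⟨⟨h1, h2⟩, h4, h5⟩ := h
    have e1 := Nat.eq_of_beq_eq_true h1
    have e2 := Nat.eq_of_beq_eq_true h2
    have e3 := Nat.eq_of_beq_eq_true h4
    have e4 := Nat.eq_of_beq_eq_true h5
    subst e1 e2 e3 e4
    exact ⟨_, b, of_tab ht⟩

/-- **elements of order 3 commuting with `z0`** -/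
theorem conj_of_z0 {s : Suz} (hs : orderOf s = 3) (hc : s * z0 = z0 * s) :
    (∃ g : Suz, g * s * g⁻¹ = y0) ∨ ∃ g : Suz, g * s * g⁻¹ = z1 := by
  have hfin := finite_Suz
  have hS : IsPGroup 3 S3 := by
    have : Fact (Nat.Prime 3) := ⟨Nat.prime_three⟩
    rw [IsPGroup.iff_card]; exact ⟨4, card_S3⟩
  have hidx : ¬ 3 ∣ S3.relIndex C1 := by
    have h1 := relIndex_mul S3_le
    rw [card_S3, card_C1] at h1
    omega
  obtain ⟨c, -, h1⟩ := exists_mem Nat.prime_three hS hidx hs (mem_C1.2 hc)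
  obtain ⟨i, j, k, l, h2⟩ := exists_Pr h1
  rw [Pr_mod] at h2
  have h3 : orderOf (Pr (i % 3) (j % 3) (k % 3) (l % 3)) = 3 := by rw [← h2, orderOf_conj, hs]
  obtain ⟨g, b, h4⟩ := conj_of_Pr (Nat.mod_lt i (by norm_num)) (Nat.mod_lt j (by norm_num))
    (Nat.mod_lt k (by norm_num)) (Nat.mod_lt l (by norm_num)) h3
  rw [← h2] at h4
  have h5 : (g * c) * s * (g * c)⁻¹ = tge b := by rw [← h4]; group
  cases b
  · exact Or.inr ⟨_, h5⟩
  · exact Or.inl ⟨_, h5⟩

/-! ### Elements of order 3 commuting with `e0` -/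

def v1 : List Suz.Gen := [.c, .b]
def v2 : List Suz.Gen := [.g, .f, .b, .c, .a, .b, .g, .c, .b, .a, .b, .f, .a]

/-- generators of a Sylow 3-subgroup of `L` -/
noncomputable def t1 : Suz := el v1
/-- generators of a Sylow 3-subgroup of `L` -/
noncomputable def t2 : Suz := el v2

theorem t1_pow : t1 ^ 3 = 1 := by
  rw [t1, el_pow]
  exact eq_of_reps (Rep.el _) Rep.one (by decide +kernel)

theorem t2_pow : t2 ^ 3 = 1 := by
  rw [t2, el_pow]
  exact eq_of_reps (Rep.el _) Rep.one (by decide +kernel)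

theorem t_comm : t1 * t2 = t2 * t1 :=
  eq_of_reps ((Rep.el _).mul (Rep.el _)) ((Rep.el _).mul (Rep.el _)) (by decide +kernel)

/-- a Sylow 3-subgroup of `L` -/
noncomputable def P9 : Subgroup Suz := cl [v1, v2]

theorem two_comm {v w : List Suz.Gen} (h : el v * el w = el w * el v) :
    ∀ a ∈ [v, w], ∀ b ∈ [v, w], el a * el b = el b * el a := by
  intro a ha b hb
  simp only [List.mem_cons, List.not_mem_nil, or_false] at ha hb
  rcases ha with rfl | rfl <;> rcases hb with rfl | rfl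
  · rfl
  · exact h
  · exact h.symm
  · rfl

theorem P9_pow : ∀ a ∈ P9, a ^ 3 = 1 := cl_pow (two_comm t_comm) (by
  intro v hv
  simp only [List.mem_cons, List.not_mem_nil, or_false] at hv
  rcases hv with rfl | rfl
  · exact t1_pow
  · exact t2_pow)

theorem P9_isPGroup : IsPGroup 3 P9 := isPGroup_of_pow P9_pow

theorem P9_le_L : P9 ≤ L := by
  apply cl_le
  intro v hv
  simp only [List.mem_cons, List.not_mem_nil, or_false] at hv
  rcases hv with rfl | rfl
  · exact word_mem_L (by decide)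
  · exact word_mem_L (by decide)

theorem L_le_CE : L ≤ CE := L_le.trans VL_le

theorem nine_le : 9 ≤ Nat.card P9 := card_cl_ge 3 9 3 (by decide +kernel) (by decide +kernel)

theorem mem_P9 {a : Suz} (ha : a ∈ P9) : ∃ i < 3, ∃ j < 3, a = t1 ^ i * t2 ^ j :=
  exists_pair t_comm (by norm_num) t1_pow t2_pow ha

/-- conjugators -/
def tab9 : List (ℕ × ℕ × List Suz.Gen) := [(0, 1, [.g, .b, .a, .b, .c, .b, .g, .b, .f]),
  (0, 2, [.f, .b, .c, .g, .b, .a, .c, .b, .g]), (1, 0, []), (1, 1, [.a, .b, .a, .b, .c, .f, .g, .b, .a, .b, .a]),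
  (1, 2, [.f, .b, .a, .b, .c, .b, .f, .b, .g]), (2, 0, [.b]), (2, 1, [.g, .b, .c, .f, .b, .a, .c, .b, .f]),
  (2, 2, [.a, .b, .a, .b, .c, .g, .f, .b, .a, .b, .a])]

noncomputable def chk9 (t : ℕ × ℕ × List Suz.Gen) : Bool :=
  checkEq 11 (wd t.2.2 ++ (wpow (wd v1) t.1 ++ wpow (wd v2) t.2.1)) (wd v1 ++ wd t.2.2)

theorem chk9_all : ∀ t ∈ tab9, chk9 t = true := by decide +kernel

theorem cov9 : ∀ i < 3, ∀ j < 3, (and (Nat.beq i 0) (Nat.beq j 0)) = true ∨
    (tab9.any fun t => and (Nat.beq t.1 i) (Nat.beq t.2.1 j)) = true := by decide +kernel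

/-- **elements of order 3 commuting with `e0`** -/
theorem conj_of_e0 {s : Suz} (hs : orderOf s = 3) (hc : s * e0 = e0 * s) : ∃ g : Suz, g * s * g⁻¹ = t1 := by
  have hfin := finite_Suz
  have hP := P9_le_L.trans L_le_CE
  have hidx : ¬ 3 ∣ P9.relIndex CE := by
    have : Fact (Nat.Prime 3) := ⟨Nat.prime_three⟩
    have h1 := relIndex_mul hP
    obtain ⟨k, hk⟩ := IsPGroup.iff_card.1 P9_isPGroup
    have h2 := nine_le
    rw [hk] at h2
    have h3 : 2 ≤ k := by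
      by_contra hlt
      have := Nat.pow_le_pow_right (show 0 < 3 by norm_num) (show k ≤ 1 by omega)
      omega
    intro h
    have h4 : 3 ^ 2 * 3 ∣ Nat.card CE := by
      rw [← h1, hk]
      exact mul_dvd_mul (pow_dvd_pow 3 h3) h
    rw [card_CE] at h4
    norm_num at h4
  obtain ⟨c, -, h1⟩ := exists_mem Nat.prime_three P9_isPGroup hidx hs (mem_CE.2 hc)
  obtain ⟨i, hi, j, hj, h2⟩ := mem_P9 h1
  rcases cov9 i hi j hj with h | h
  · exfalso
    rw [Bool.and_eq_true] at h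
    have hi0 := Nat.eq_of_beq_eq_true h.1
    have hj0 := Nat.eq_of_beq_eq_true h.2
    subst hi0 hj0
    rw [← orderOf_conj c, h2, pow_zero, pow_zero, one_mul, orderOf_one] at hs
    omega
  · rw [List.any_eq_true] at h
    obtain ⟨⟨i', j', u⟩, ht, h⟩ := h
    rw [Bool.and_eq_true] at h
    have hi0 := Nat.eq_of_beq_eq_true h.1
    have hj0 := Nat.eq_of_beq_eq_true h.2
    subst hi0 hj0
    have h3 := eq_of_reps ((Rep.el u).mul ((Rep.pow (Rep.el v1) i').mul (Rep.pow (Rep.el v2) j')))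
      ((Rep.el v1).mul (Rep.el u)) (chk9_all _ ht)
    refine ⟨el u * c, ?_⟩
    have h4 : el u * (c * s * c⁻¹) = t1 * el u := by rw [h2]; exact h3
    calc el u * c * s * (el u * c)⁻¹ = el u * (c * s * c⁻¹) * (el u)⁻¹ := by group
      _ = t1 * el u * (el u)⁻¹ := by rw [h4]
      _ = t1 := by group

/-! ### 2-groups commuting with `e0` -/

open Cfsg.Agent.SporRec.SuzCl (W8 W9 pr_cons pr_nil)

/-- the generators of `TL` as words -/
noncomputable def wsL : List (List Suz.Gen) := [W9, W8, [.g], [.f], [.c], [.a]]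

/-- the word with given exponents -/
noncomputable def prw (ws : List (List Suz.Gen)) : ℕ → List Suz.Gen :=
  List.rec (motive := fun _ => ℕ → List Suz.Gen) (fun _ => [])
    (fun w _ ih k => Bool.rec (ih (Nat.div k 2)) (w ++ ih (Nat.div k 2)) (Nat.beq (Nat.mod k 2) 1)) ws

theorem pr_words (ws : List (List Suz.Gen)) (k : ℕ) : pr (ws.map el) k = el (prw ws k) := by
  induction ws generalizing k with
  | nil => rfl
  | cons w ws ih =>
    rw [List.map_cons, pr_cons, ih]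
    show _ = el (Bool.rec (prw ws (k / 2)) (w ++ prw ws (k / 2)) (Nat.beq (k % 2) 1))
    by_cases h : k % 2 = 1
    · rw [if_pos h, h, show Nat.beq 1 1 = true from rfl]
      show _ = el (w ++ prw ws (k / 2))
      rw [el_append]
    · rw [if_neg h, show Nat.beq (k % 2) 1 = false by
        rw [← Bool.not_eq_true]
        exact fun h' => h (Nat.eq_of_beq_eq_true h'), one_mul]

theorem gsL_eq : gsL = wsL.map el := by
  unfold gsL wsL
  simp only [List.map_cons, List.map_nil, KFacts.SuzTL.of_eq]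

/-- no element of `TL` has 42 fixed points -/
theorem fx_chk : ∀ k < 64, Nat.beq (pc 11 (fxB (wd (prw wsL k)))) 42 = false := by decide +kernel

theorem card_Fx_e0 : (Fx e0).card = 42 := card_Fx_rep (Rep.el [.e]) (by decide +kernel)

theorem fx_TL {t : Suz} (ht : t ∈ TL) : (Fx t).card ≠ 42 := by
  intro h
  obtain ⟨k, hk, rfl⟩ := exists_pr gsL pc_L t ht
  have hk' : k < 64 := hk
  rw [gsL_eq, pr_words] at h
  have h1 := fx_chk k hk'
  have h2 : Nat.beq (pc 11 (fxB (wd (prw wsL k)))) (pc 11 (fxB (wd (prw wsL k)))) = true := Nat.beq_refl _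
  have h3 := card_Fx_rep (Rep.el (prw wsL k)) h2
  rw [h] at h3
  rw [← h3] at h1
  exact absurd h1 (by decide)

/-- `L` contains no involution conjugate to `e0` -/
theorem not_conj_e0 {t : Suz} (ht : orderOf t = 2) (htL : t ∈ L) (g : Suz) : g * e0 * g⁻¹ ≠ t := by
  intro h
  have hfin := finite_Suz
  have hT : IsPGroup 2 TL := by
    have : Fact (Nat.Prime 2) := ⟨Nat.prime_two⟩
    rw [IsPGroup.iff_card]; exact ⟨6, by rw [KFacts.SuzTL.card_TL]; norm_num⟩
  have hidx : ¬ 2 ∣ TL.relIndex L := by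
    have h1 := relIndex_mul TL_le
    rw [KFacts.SuzTL.card_TL, card_L] at h1
    omega
  obtain ⟨c, -, h1⟩ := exists_mem Nat.prime_two hT hidx ht htL
  apply fx_TL h1
  rw [card_Fx_conj, ← h, card_Fx_conj, card_Fx_e0]

/-- **2-groups commuting with `e0` whose involutions are conjugate to `e0`** -/
theorem card_two_of_e0 {T : Subgroup Suz} (hT : IsPGroup 2 T) (hc : ∀ t ∈ T, t * e0 = e0 * t)
    (hi : ∀ t ∈ T, orderOf t = 2 → ∃ g : Suz, g * e0 * g⁻¹ = t) : Nat.card T ∣ 8 := by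
  have hfin := finite_Suz
  have : Fact (Nat.Prime 2) := ⟨Nat.prime_two⟩
  have hTC : T ≤ CE := fun t ht => mem_CE.2 (hc t ht)
  have hTL : T ⊓ L = ⊥ := by
    by_contra hne
    have hp : IsPGroup 2 (T ⊓ L : Subgroup Suz) := hT.to_le inf_le_left
    obtain ⟨k, hk⟩ := IsPGroup.iff_card.1 hp
    have hk0 : k ≠ 0 := by
      rintro rfl
      rw [pow_zero] at hk
      exact hne (Subgroup.eq_bot_of_card_eq _ hk)
    obtain ⟨t, ht⟩ := exists_prime_orderOf_dvd_card' (G := ↥(T ⊓ L)) 2 (by rw [hk]; exact dvd_pow_self 2 hk0)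
    have ht' : orderOf (t : Suz) = 2 := by rw [Subgroup.orderOf_coe, ht]
    obtain ⟨g, hg⟩ := hi t t.2.1 ht'
    exact not_conj_e0 ht' t.2.2 g hg
  have hLn : (L.subgroupOf CE).Normal := ⟨fun a ha g => by
    rw [Subgroup.mem_subgroupOf] at ha ⊢
    exact conj_L g.2 ha⟩
  have hidx : (L.subgroupOf CE).index = 8 := by
    have h1 := relIndex_mul L_le_CE
    rw [card_L, card_CE] at h1
    have h2 : L.relIndex CE = 8 := by omega
    exact h2
  let f : T →* CE ⧸ (L.subgroupOf CE) := (QuotientGroup.mk' (L.subgroupOf CE)).comp (Subgroup.inclusion hTC)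
  have hf : Function.Injective f := by
    rw [injective_iff_map_eq_one]
    intro t ht
    have h1 : (Subgroup.inclusion hTC t) ∈ L.subgroupOf CE := (QuotientGroup.eq_one_iff _).1 ht
    have h2 : (t : Suz) ∈ T ⊓ L := ⟨t.2, Subgroup.mem_subgroupOf.1 h1⟩
    rw [hTL, Subgroup.mem_bot] at h2
    exact Subtype.ext h2
  have h1 := Subgroup.card_dvd_of_injective f hf
  rwa [← Subgroup.index_eq_card, hidx] at h1

end Cfsg.Agent.CpAutSuz.Classes
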