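import Cfsg.Agent.CpAutSuz.Gen
import Cfsg.Agent.SuzThree.GoodX
import Cfsg.Agent.CpAutSuz.Classes
set_option linter.all false

-- merged: Cfsg.Agent.CpAutSuz.Five
section

/-!
# The Suzuki group: elements of order 5 (helper24)

* `card_Fx_five` : an element of order 5 fixes 2 or 12 points;
* `card_five`, `card_seven` : the order of a 3-subgroup commuting with an element of order 5 (7) divides 81 (27);
* `not_25` : 25 does not divide the order of the centraliser of an element of order 3.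
-/

set_option autoImplicit false
set_option maxRecDepth 100000
set_option exponentiation.threshold 4000

namespace Cfsg.Agent.CpAutSuz.Five

open Subgroup Cfsg
open Cfsg.Spor (Suz)
open Cfsg.Agent.Lib.PermNet Cfsg.Agent.Lib.PermNetOrbit Cfsg.Agent.SporadicRecognition.SuzPhi
  Cfsg.Agent.SporadicRecognition.SuzBound Cfsg.Agent.SporadicRecognition.SuzOrder
  Cfsg.Agent.SuzThree.Nets Cfsg.Agent.SuzThree.Basic
open Cfsg.Agent.SuzThree.CentA (cl el_mem_cl cl_le cl_mono)
open Cfsg.Agent.SuzThree.GoodX (exists_conj_le)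
open Cfsg.Agent.SporRec.SuzCl (Fx card_Fx_conj)
open Cfsg.Agent.CpAutSuz.Fix Cfsg.Agent.CpAutSuz.Gen

/-! ### A Sylow 5-subgroup -/

def w1 : List Suz.Gen := [.a, .b]
def w2 : List Suz.Gen := [.c, .d, .b, .c, .d, .c, .b, .a, .b, .c, .d, .e, .a, .b, .c]

/-- generators of a Sylow 5-subgroup -/
noncomputable def f1 : Suz := el w1
/-- generators of a Sylow 5-subgroup -/
noncomputable def f2 : Suz := el w2

theorem f1_pow : f1 ^ 5 = 1 := by
  rw [f1, el_pow]
  exact eq_of_reps (Rep.el _) Rep.one (by decide +kernel)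

theorem f2_pow : f2 ^ 5 = 1 := by
  rw [f2, el_pow]
  exact eq_of_reps (Rep.el _) Rep.one (by decide +kernel)

theorem f_comm : f1 * f2 = f2 * f1 :=
  eq_of_reps ((Rep.el _).mul (Rep.el _)) ((Rep.el _).mul (Rep.el _)) (by decide +kernel)

/-- a Sylow 5-subgroup -/
noncomputable def Y0 : Subgroup Suz := cl [w1, w2]

theorem words_comm {v w : List Suz.Gen} (h : el v * el w = el w * el v) :
    ∀ a ∈ [v, w], ∀ b ∈ [v, w], el a * el b = el b * el a := by
  intro a ha b hb
  simp only [List.mem_cons, List.not_mem_nil, or_false] at ha hb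
  rcases ha with rfl | rfl <;> rcases hb with rfl | rfl
  · rfl
  · exact h
  · exact h.symm
  · rfl

theorem Y0_comm : ∀ a ∈ Y0, ∀ b ∈ Y0, a * b = b * a := cl_comm (words_comm f_comm)

theorem Y0_pow : ∀ a ∈ Y0, a ^ 5 = 1 := cl_pow (words_comm f_comm) (by
  intro v hv
  simp only [List.mem_cons, List.not_mem_nil, or_false] at hv
  rcases hv with rfl | rfl
  · exact f1_pow
  · exact f2_pow)

theorem Y0_isPGroup : IsPGroup 5 Y0 := isPGroup_of_pow Y0_pow

theorem f1_mem : f1 ∈ Y0 := el_mem_cl (by simp)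
theorem f2_mem : f2 ∈ Y0 := el_mem_cl (by simp)

theorem card_Y0 : Nat.card Y0 = 5 ^ 2 := by
  have hfin := finite_Suz
  have : Fact (Nat.Prime 5) := ⟨by norm_num⟩
  have h1 : 25 ≤ Nat.card Y0 := card_cl_ge 4 25 4 (by decide +kernel) (by decide +kernel)
  obtain ⟨k, hk⟩ := IsPGroup.iff_card.1 Y0_isPGroup
  rw [hk] at h1 ⊢
  have h2 : k ≤ 2 := by
    by_contra hlt
    have h3 := (pow_dvd_pow 5 (show 3 ≤ k by omega)).trans (hk ▸ card_subgroup_dvd_card Y0)
    rw [card_Suz] at h3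
    norm_num at h3
  have h3 : ¬ k ≤ 1 := by
    intro h
    have := Nat.pow_le_pow_right (show 0 < 5 by norm_num) h
    omega
  congr 1
  omega

theorem mem_Y0 {a : Suz} (ha : a ∈ Y0) : ∃ i < 5, ∃ j < 5, a = f1 ^ i * f2 ^ j :=
  exists_pair f_comm (by norm_num) f1_pow f2_pow ha

/-- a 5-subgroup is conjugate into `Y0` -/
theorem exists_conj {X : Subgroup Suz} (hX : IsPGroup 5 X) : ∃ c : Suz, X.map (MulAut.conj c).toMonoidHom ≤ Y0 := by
  have hfin := finite_Suz
  have : Fact (Nat.Prime 5) := ⟨by norm_num⟩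
  obtain ⟨c, -, hc⟩ := exists_conj_le (C := ⊤) le_top Y0_isPGroup hX (by
    rw [relIndex_top_right]
    intro h
    have h1 := Y0.card_mul_index
    rw [card_Y0, card_Suz] at h1
    omega)
  exact ⟨c, hc⟩

/-! ### Fixed points -/

/-- the number of fixed points of `f1 ^ i * f2 ^ j` is 2 or 12 -/
noncomputable def chk (i j : ℕ) : Bool :=
  seqB (pc 11 (fxB (wpow (wd w1) i ++ wpow (wd w2) j))) fun n => or (Nat.beq n 2) (Nat.beq n 12)

theorem chk_all : ∀ i < 5, ∀ j < 5, (and (Nat.beq i 0) (Nat.beq j 0) = true) ∨ chk i j = true := by decide +kernel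

theorem card_Fx_five {v : Suz} (hv : orderOf v = 5) : (Fx v).card = 2 ∨ (Fx v).card = 12 := by
  have : Fact (Nat.Prime 5) := ⟨by norm_num⟩
  obtain ⟨c, hc⟩ := exists_conj (X := zpowers v) (IsPGroup.of_card (n := 1) (by rw [Nat.card_zpowers, hv, pow_one]))
  have h1 : c * v * c⁻¹ ∈ Y0 := hc ⟨v, mem_zpowers v, rfl⟩
  rw [← card_Fx_conj c v]
  obtain ⟨i, hi, j, hj, h2⟩ := mem_Y0 h1
  have h3 : c * v * c⁻¹ ≠ 1 := by
    intro h
    have h4 : v = 1 := by
      have : v = c⁻¹ * (c * v * c⁻¹) * c := by group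
      rw [this, h]; group
    rw [h4, orderOf_one] at hv
    omega
  rw [h2] at h3 ⊢
  have hr : Rep (f1 ^ i * f2 ^ j) (wpow (wd w1) i ++ wpow (wd w2) j) := (Rep.pow (Rep.el _) i).mul (Rep.pow (Rep.el _) j)
  rcases chk_all i hi j hj with h | h
  · exfalso
    rw [Bool.and_eq_true] at h
    have hi0 := Nat.eq_of_beq_eq_true h.1
    have hj0 := Nat.eq_of_beq_eq_true h.2
    subst hi0 hj0
    exact h3 (by simp)
  · unfold chk at h
    rw [seqB_eq, Bool.or_eq_true] at h
    exact h.imp (card_Fx_rep hr) (card_Fx_rep hr)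

/-- a 3-subgroup commuting with an element with a number of fixed points not divisible by 9 -/
theorem card_of_fix {v : Suz} (hv : ¬ 3 ^ (1 + 1) ∣ (Fx v).card) {Q : Subgroup Suz} (hQ : IsPGroup 3 Q)
    (hc : ∀ q ∈ Q, q * v = v * q) : Nat.card Q ∣ 3 ^ 4 := by
  have : Fact (Nat.Prime 3) := ⟨Nat.prime_three⟩
  obtain ⟨a, ha, h1⟩ := exists_fix hQ (Fx v) (fun q hq a ha => φ_fix_of_comm (hc q hq) ha) hv
  have h2 := card_three_of_fix (Q := Q ⊓ stabL φ [a]) (hQ.to_le inf_le_left) (mem_Fx.1 ha).1 inf_le_right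
  exact h1.trans ((mul_dvd_mul_left _ h2).trans (by norm_num))

theorem card_of_fix' {v : Suz} (hv : ¬ 3 ^ (0 + 1) ∣ (Fx v).card) {Q : Subgroup Suz} (hQ : IsPGroup 3 Q)
    (hc : ∀ q ∈ Q, q * v = v * q) : Nat.card Q ∣ 3 ^ 3 := by
  have : Fact (Nat.Prime 3) := ⟨Nat.prime_three⟩
  obtain ⟨a, ha, h1⟩ := exists_fix hQ (Fx v) (fun q hq a ha => φ_fix_of_comm (hc q hq) ha) hv
  have h2 := card_three_of_fix (Q := Q ⊓ stabL φ [a]) (hQ.to_le inf_le_left) (mem_Fx.1 ha).1 inf_le_right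
  exact h1.trans ((mul_dvd_mul_left _ h2).trans (by norm_num))

theorem card_five {v : Suz} (hv : orderOf v = 5) {Q : Subgroup Suz} (hQ : IsPGroup 3 Q)
    (hc : ∀ q ∈ Q, q * v = v * q) : Nat.card Q ∣ 3 ^ 4 :=
  card_of_fix (by rcases card_Fx_five hv with h | h <;> rw [h] <;> norm_num) hQ hc

theorem card_seven {v : Suz} (hv : orderOf v = 7) {Q : Subgroup Suz} (hQ : IsPGroup 3 Q)
    (hc : ∀ q ∈ Q, q * v = v * q) : Nat.card Q ∣ 3 ^ 3 :=
  card_of_fix' (by rw [card_Fx_seven hv]; norm_num) hQ hc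

/-! ### No element of order 3 commutes with a Sylow 5-subgroup -/

/-- two cycles of length 5 of `f1` -/
def P1 : Bool → Fin 5 → ℕ
  | false => ![1, 3, 5, 6, 2]
  | true => ![1461, 1513, 1505, 1635, 1567]

def P2 : Bool → Fin 5 → ℕ
  | false => ![334, 671, 456, 863, 486]
  | true => ![1620, 1722, 1713, 1678, 1680]

theorem sym_aux : ∀ o1 o2 : Bool, ∀ k1 k2 : Fin 5,
    let σ : Bool × Fin 5 → Bool × Fin 5 := fun a => if a.1 then (o2, k2 + a.2) else (o1, k1 + a.2)
    σ (σ (σ (false, 0))) = (false, 0) → σ (σ (σ (true, 0))) = (true, 0) → o1 = false ∧ k1 = 0 ∧ o2 = true ∧ k2 = 0 := by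
  decide

/-- an element `x` of order 3 commuting with `f1` and permuting the points of two cycles of `f1` fixes them -/
theorem fix_of_cycles {x : Suz} (hx : x ^ 3 = 1) (hc : x * f1 = f1 * x) {P : Bool → Fin 5 → ℕ}
    (hinj : Function.Injective (fun a : Bool × Fin 5 => P a.1 a.2)) (hP : ∀ o k, φ f1 (P o k) = P o (k + 1))
    (hm : ∀ o, ∃ o' k', φ x (P o 0) = P o' k') : ∀ o k, φ x (P o k) = P o k := by
  obtain ⟨o1, k1, h1⟩ := hm false
  obtain ⟨o2, k2, h2⟩ := hm true
  have hs : ∀ {p q : ℕ}, φ x p = q → φ x (φ f1 p) = φ f1 q := by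
    intro p q h
    rw [← φ_mul_apply, hc, φ_mul_apply, h]
  have key : ∀ {o o' : Bool} {k' : Fin 5}, φ x (P o 0) = P o' k' → ∀ k, φ x (P o k) = P o' (k' + k) := by
    intro o o' k' h
    have e : ∀ k, φ x (P o k) = P o' (k' + k) → φ x (P o (k + 1)) = P o' (k' + (k + 1)) := by
      intro k hk
      have h3 := hs hk
      rw [hP, hP] at h3
      rw [h3, add_assoc]
    have e0 : φ x (P o 0) = P o' (k' + 0) := by rw [h, add_zero]
    have e1 := e 0 e0
    have e2 := e _ e1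
    have e3 := e _ e2
    have e4 := e _ e3
    intro k
    fin_cases k
    · exact e0
    · exact e1
    · exact e2
    · exact e3
    · exact e4
  let σ : Bool × Fin 5 → Bool × Fin 5 := fun a => if a.1 then (o2, k2 + a.2) else (o1, k1 + a.2)
  have hσ : ∀ a : Bool × Fin 5, φ x (P a.1 a.2) = P (σ a).1 (σ a).2 := by
    rintro ⟨o, k⟩
    cases o
    · exact key h1 k
    · exact key h2 k
  have h3 : ∀ a, σ (σ (σ a)) = a := by
    intro a
    apply hinj
    show P (σ (σ (σ a))).1 (σ (σ (σ a))).2 = P a.1 a.2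
    rw [← hσ, ← hσ, ← hσ, ← φ_mul_apply, ← φ_mul_apply]
    have : x * (x * x) = 1 := by rw [← hx, pow_succ, pow_two, mul_assoc]
    rw [← mul_assoc] at this
    rw [this, map_one]; rfl
  obtain ⟨rfl, rfl, rfl, rfl⟩ := sym_aux o1 o2 k1 k2 (h3 _) (h3 _)
  intro o k
  have h4 := hσ (o, k)
  rw [h4]
  cases o
  · show P false (0 + k) = P false k
    rw [zero_add]
  · show P true (0 + k) = P true k
    rw [zero_add]

theorem P1_inj : Function.Injective (fun a : Bool × Fin 5 => P1 a.1 a.2) := by decide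
theorem P2_inj : Function.Injective (fun a : Bool × Fin 5 => P2 a.1 a.2) := by decide

noncomputable def chkP (P : Bool → Fin 5 → ℕ) (o : Bool) (k : Fin 5) : Bool := mv (wd w1) (P o k) (P o (k + 1))

theorem P1_f1 : ∀ o k, φ f1 (P1 o k) = P1 o (k + 1) := by
  have h : ∀ o k, chkP P1 o k = true := by decide +kernel
  exact fun o k => (Rep.el w1).pt (h o k)

theorem P2_f1 : ∀ o k, φ f1 (P2 o k) = P2 o (k + 1) := by
  have h : ∀ o k, chkP P2 o k = true := by decide +kernel
  exact fun o k => (Rep.el w1).pt (h o k)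

/-- a bit mask of a list -/
noncomputable def msk (l : List ℕ) : ℕ := List.rec (motive := fun _ => ℕ) 0 (fun p _ ih => Nat.lor (Nat.pow 2 p) ih) l

theorem mem_of_msk {l : List ℕ} {p : ℕ} (h : (msk l).testBit p = true) : p ∈ l := by
  induction l with
  | nil =>
    have h1 : (0 : ℕ).testBit p = true := h
    rw [Nat.zero_testBit] at h1
    exact absurd h1 (by simp)
  | cons q l ih =>
    have h1 : (2 ^ q ||| msk l).testBit p = true := h
    rw [Nat.testBit_or, Bool.or_eq_true, Nat.testBit_two_pow, decide_eq_true_eq] at h1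
    rcases h1 with rfl | h1
    · exact List.mem_cons_self
    · exact List.mem_cons_of_mem _ (ih h1)

theorem mem_list {g : Suz} {w : List Net} (hr : Rep g w) {l : List ℕ} (hl : Nat.beq (fxB w) (msk l) = true) {p : ℕ}
    (hp : p ∈ Fx g) : p ∈ l := by
  apply mem_of_msk
  rw [← Nat.eq_of_beq_eq_true hl]
  exact (testBit_fxB hr p).2 (mem_Fx.1 hp)

/-- fixed points of `f1` -/
theorem fx_f1 {p : ℕ} (hp : p ∈ Fx f1) : p ∈ [0, 1575] := mem_list (Rep.el w1) (by decide +kernel) hp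

/-- fixed points of `f1 f2²` -/
theorem fx_a1 {p : ℕ} (hp : p ∈ Fx (f1 ^ 1 * f2 ^ 2)) : p ∈ [0, 1, 2, 3, 5, 6, 1461, 1505, 1513, 1567, 1575, 1635] :=
  mem_list ((Rep.pow (Rep.el w1) 1).mul (Rep.pow (Rep.el w2) 2)) (by decide +kernel) hp

/-- fixed points of `f1 f2³` -/
theorem fx_a2 {p : ℕ} (hp : p ∈ Fx (f1 ^ 1 * f2 ^ 3)) : p ∈ [0, 334, 456, 486, 671, 863, 1575, 1620, 1678, 1680, 1713, 1722] :=
  mem_list ((Rep.pow (Rep.el w1) 1).mul (Rep.pow (Rep.el w2) 3)) (by decide +kernel) hp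

/-- the cell of 14 -/
def ws14 : List (List Suz.Gen) := [[.d, .c, .d, .e, .b, .c, .d, .b, .c, .b, .a, .b, .g],
  [.g, .a, .b, .c, .d, .e, .c, .d, .b, .c, .a, .b, .g], [.f, .b, .c, .d, .c, .b, .f, .g, .b, .c, .d, .c, .b, .g],
  [.c, .d, .c, .b, .f, .g, .b, .c, .d, .c, .b, .g], [.b, .c, .d, .c, .b, .f, .g, .b, .c, .d, .c, .b, .g]]

/-- the cell of 98 -/
def ws98 : List (List Suz.Gen) := [[.f, .b, .g], [.b, .a, .b, .g],
  [.c, .d, .c, .b, .f, .g, .b, .c, .d, .c, .b, .g], [.d, .c, .d, .e, .b, .c, .d, .b, .c, .b, .a, .b, .g],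
  [.g, .a, .b, .c, .d, .e, .c, .d, .b, .c, .a, .b, .g]]

theorem cell14 : Nat.beq (cell 14 ws14) (msk [14]) = true := by decide +kernel
theorem cell98 : Nat.beq (cell 98 ws98) (msk [98, 807]) = true := by decide +kernel

/-- the points of the words -/
noncomputable def chkW (l : List (List Suz.Gen × ℕ)) : Bool :=
  List.rec (motive := fun _ => Bool) true (fun a _ ih => and (mv (wd a.1) 0 a.2) ih) l

theorem chkW_spec {l : List (List Suz.Gen × ℕ)} (h : chkW l = true) : ∀ a ∈ l, φ (el a.1) 0 = a.2 := by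
  induction l with
  | nil => intro a ha; exact absurd ha (by simp)
  | cons b l ih =>
    have h' : and (mv (wd b.1) 0 b.2) (chkW l) = true := h
    rw [Bool.and_eq_true] at h'
    intro a ha
    rcases List.mem_cons.1 ha with rfl | ha
    · exact (Rep.el _).pt h'.1
    · exact ih h'.2 a ha

theorem pts14 : chkW (ws14.zip [334, 456, 1575, 1461, 1513]) = true := by decide +kernel
theorem pts98 : chkW (ws98.zip [5, 6, 1461, 334, 456]) = true := by decide +kernel

theorem fix_ws {x : Suz} {ws : List (List Suz.Gen)} {l : List ℕ} (hl : ws.length = l.length)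
    (h : chkW (ws.zip l) = true) (hx : ∀ p ∈ l, φ x p = p) : ∀ w ∈ ws, φ x (φ (el w) 0) = φ (el w) 0 := by
  induction ws generalizing l with
  | nil => intro w hw; exact absurd hw (by simp)
  | cons v ws ih =>
    cases l with
    | nil => simp at hl
    | cons p l =>
      rw [List.zip_cons_cons] at h
      have h' : and (mv (wd v) 0 p) (chkW (ws.zip l)) = true := h
      rw [Bool.and_eq_true] at h'
      intro w hw
      rcases List.mem_cons.1 hw with rfl | hw
      · rw [(Rep.el _).pt h'.1]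
        exact hx p List.mem_cons_self
      · exact ih (by simpa using hl) h'.2 (fun q hq => hx q (List.mem_cons_of_mem _ hq)) w hw

theorem cube_fix {x : Suz} (hx : x ^ 3 = 1) {p q : ℕ} (hp : φ x p = p ∨ φ x p = q) (hq : φ x q = p ∨ φ x q = q) :
    φ x p = p := by
  rcases hp with h | h
  · exact h
  · have h3 : φ x (φ x (φ x p)) = p := by
      rw [← φ_mul_apply, ← φ_mul_apply]
      have : x * x * x = 1 := by rw [← hx, pow_succ, pow_two]
      rw [this, map_one]; rfl
    rcases hq with h2 | h2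
    · rw [h, h2, h] at h3
      rw [h, h3]
    · rw [h, h2, h2] at h3
      rw [h, h3]

/-- an element `x` with `x ^ 3 = 1` commuting with `f1`, `f2` is trivial -/
theorem eq_one {x : Suz} (hx : x ^ 3 = 1) (h1 : x * f1 = f1 * x) (h2 : x * f2 = f2 * x) : x = 1 := by
  have hc : ∀ i j : ℕ, x * (f1 ^ i * f2 ^ j) = (f1 ^ i * f2 ^ j) * x := fun i j =>
    (Commute.mul_right (Commute.pow_right (show Commute x f1 from h1) i) (Commute.pow_right (show Commute x f2 from h2) j)).eq
  -- 0 and 1575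
  have hf : ∀ p ∈ [0, 1575], φ x p = 0 ∨ φ x p = 1575 := by
    intro p hp
    have h3 : p ∈ Fx f1 := by
      rw [mem_Fx]
      simp only [List.mem_cons, List.not_mem_nil, or_false] at hp
      rcases hp with rfl | rfl
      · exact ⟨by norm_num, (Rep.el w1).pt (by decide +kernel)⟩
      · exact ⟨by norm_num, (Rep.el w1).pt (by decide +kernel)⟩
    have h4 := fx_f1 (φ_fix_of_comm h1 h3)
    simpa using h4
  have x0 : φ x 0 = 0 := cube_fix hx (hf 0 (by simp)) (hf 1575 (by simp))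
  have x1575 : φ x 1575 = 1575 := cube_fix hx (hf 1575 (by simp)).symm (hf 0 (by simp)).symm
  have ninj : ∀ {p q : ℕ}, φ x p = q → φ x q = q → p = q := by
    intro p q hp hq
    exact (φ x).injective (hp.trans hq.symm)
  -- the first table
  have r1 := (Rep.pow (Rep.el w1) 1).mul (Rep.pow (Rep.el w2) 2)
  have m1 : ∀ o, P1 o 0 ∈ Fx (f1 ^ 1 * f2 ^ 2) := by
    intro o
    rw [mem_Fx]
    cases o
    · exact ⟨by decide, r1.pt (by decide +kernel)⟩
    · exact ⟨by decide, r1.pt (by decide +kernel)⟩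
  have t1 : ∀ o k, φ x (P1 o k) = P1 o k := by
    refine fix_of_cycles hx h1 P1_inj P1_f1 fun o => ?_
    have h3 := fx_a1 (φ_fix_of_comm (hc 1 2) (m1 o))
    simp only [List.mem_cons, List.not_mem_nil, or_false] at h3
    rcases h3 with h | h | h | h | h | h | h | h | h | h | h | h
    · exact absurd (ninj h x0) (by cases o <;> decide)
    · exact ⟨false, 0, h⟩
    · exact ⟨false, 4, h⟩
    · exact ⟨false, 1, h⟩
    · exact ⟨false, 2, h⟩
    · exact ⟨false, 3, h⟩
    · exact ⟨true, 0, h⟩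
    · exact ⟨true, 2, h⟩
    · exact ⟨true, 1, h⟩
    · exact ⟨true, 4, h⟩
    · exact absurd (ninj h x1575) (by cases o <;> decide)
    · exact ⟨true, 3, h⟩
  -- the second table
  have r2 := (Rep.pow (Rep.el w1) 1).mul (Rep.pow (Rep.el w2) 3)
  have m2 : ∀ o, P2 o 0 ∈ Fx (f1 ^ 1 * f2 ^ 3) := by
    intro o
    rw [mem_Fx]
    cases o
    · exact ⟨by decide, r2.pt (by decide +kernel)⟩
    · exact ⟨by decide, r2.pt (by decide +kernel)⟩
  have t2 : ∀ o k, φ x (P2 o k) = P2 o k := by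
    refine fix_of_cycles hx h1 P2_inj P2_f1 fun o => ?_
    have h3 := fx_a2 (φ_fix_of_comm (hc 1 3) (m2 o))
    simp only [List.mem_cons, List.not_mem_nil, or_false] at h3
    rcases h3 with h | h | h | h | h | h | h | h | h | h | h | h
    · exact absurd (ninj h x0) (by cases o <;> decide)
    · exact ⟨false, 0, h⟩
    · exact ⟨false, 2, h⟩
    · exact ⟨false, 4, h⟩
    · exact ⟨false, 1, h⟩
    · exact ⟨false, 3, h⟩
    · exact absurd (ninj h x1575) (by cases o <;> decide)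
    · exact ⟨true, 0, h⟩
    · exact ⟨true, 3, h⟩
    · exact ⟨true, 4, h⟩
    · exact ⟨true, 2, h⟩
    · exact ⟨true, 1, h⟩
  -- 14 and 98
  have x14 : φ x 14 = 14 := by
    have h3 := cell_inv (b := 14) (fix_ws rfl pts14 (by
      intro p hp
      simp only [List.mem_cons, List.not_mem_nil, or_false] at hp
      rcases hp with rfl | rfl | rfl | rfl | rfl
      · exact t2 false 0
      · exact t2 false 2
      · exact x1575
      · exact t1 true 0
      · exact t1 true 1)) 14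
    rw [Nat.eq_of_beq_eq_true cell14] at h3
    have h4 : (msk [14]).testBit 14 = true := by rw [← tb_eq]; decide +kernel
    rw [h4] at h3
    simpa using mem_of_msk h3
  have x98' : ∀ p, (p = 98 ∨ p = 807) → (φ x p = 98 ∨ φ x p = 807) := by
    intro p hp
    have h3 := cell_inv (b := 98) (fix_ws rfl pts98 (by
      intro p hp
      simp only [List.mem_cons, List.not_mem_nil, or_false] at hp
      rcases hp with rfl | rfl | rfl | rfl | rfl
      · exact t1 false 2
      · exact t1 false 3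
      · exact t1 true 0
      · exact t2 false 0
      · exact t2 false 2)) p
    rw [Nat.eq_of_beq_eq_true cell98] at h3
    have h4 : (msk [98, 807]).testBit p = true := by
      rcases hp with rfl | rfl
      · rw [← tb_eq]; decide +kernel
      · rw [← tb_eq]; decide +kernel
    rw [h4] at h3
    simpa using mem_of_msk h3
  have x98 : φ x 98 = 98 := cube_fix hx (x98' 98 (Or.inl rfl)) (x98' 807 (Or.inr rfl))
  apply eq_one_of_fix
  intro q hq
  simp only [List.mem_cons, List.not_mem_nil, or_false] at hq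
  rcases hq with rfl | rfl | rfl | rfl | rfl
  · exact x14
  · exact x98
  · exact t1 false 0
  · exact x1575
  · exact x0

/-- **25 does not divide the order of the centraliser of an element of order 3** -/
theorem not_25 {x : Suz} (hx : orderOf x = 3) : ¬ 5 ^ 2 ∣ Nat.card (centralizer ({x} : Set Suz)) := by
  intro h
  have hfin := finite_Suz
  have : Fact (Nat.Prime 5) := ⟨by norm_num⟩
  obtain ⟨S, hS⟩ := Sylow.exists_subgroup_card_pow_prime 5 h
  let X : Subgroup Suz := S.map (centralizer ({x} : Set Suz)).subtype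
  have hXc : Nat.card X = 5 ^ 2 := by
    rw [card_map_of_injective (centralizer ({x} : Set Suz)).subtype_injective, hS]
  obtain ⟨c, hc⟩ := exists_conj (X := X) (IsPGroup.of_card hXc)
  have h1 : X.map (MulAut.conj c).toMonoidHom = Y0 := by
    apply Subgroup.eq_of_le_of_card_ge hc
    rw [card_map_of_injective (MulAut.conj c).injective, hXc, card_Y0]
  have h2 : ∀ y ∈ Y0, (c * x * c⁻¹) * y = y * (c * x * c⁻¹) := by
    intro y hy
    rw [← h1] at hy
    obtain ⟨_, ⟨s, -, rfl⟩, rfl⟩ := hy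
    have h3 : (s : Suz) * x = x * s := mem_centralizer_singleton_iff.1 s.2
    show (c * x * c⁻¹) * (c * s * c⁻¹) = (c * s * c⁻¹) * (c * x * c⁻¹)
    calc (c * x * c⁻¹) * (c * s * c⁻¹) = c * (x * s) * c⁻¹ := by group
      _ = c * (s * x) * c⁻¹ := by rw [h3]
      _ = _ := by group
  have h3 := eq_one (x := c * x * c⁻¹) (by rw [conj_pow, ← hx, pow_orderOf_eq_one, mul_one, mul_inv_cancel])
    (h2 _ f1_mem) (h2 _ f2_mem)
  have h4 : x = 1 := by
    have : x = c⁻¹ * (c * x * c⁻¹) * c := by group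
    rw [this, h3]; group
  rw [h4, orderOf_one] at hx
  omega

end Cfsg.Agent.CpAutSuz.Five

end

-- merged: Cfsg.Agent.CpAutSuz.Local
section

/-!
# The Suzuki group: centralisers of the elements of order 3 (helper24)

`y0` (3A), `z1` (3B), `t1` (3C).
* `dvd_y0`, `dvd_z1` : `3 ^ 7` divides the orders of `C(y0)` and `C(z1)`;
* `y0_11`, `y0_13`, `z1_7`, `z1_11`, `z1_13` : primes not dividing them;
* `R0` : an abelian 3-subgroup of order at least 81 containing and centralising `t1`.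
-/

set_option autoImplicit false
set_option maxRecDepth 100000
set_option exponentiation.threshold 4000

namespace Cfsg.Agent.CpAutSuz.Local

open Subgroup Cfsg
open Cfsg.Spor (Suz)
open Cfsg.Agent.Lib.PermNet Cfsg.Agent.Lib.PermNetOrbit Cfsg.Agent.SporadicRecognition.SuzPhi
  Cfsg.Agent.SporadicRecognition.SuzBound Cfsg.Agent.SporadicRecognition.SuzOrder
  Cfsg.Agent.SuzThree.Nets Cfsg.Agent.SuzThree.Basic Cfsg.Agent.SuzThree.Elts
open Cfsg.Agent.SuzThree.Elementary (rep_pow cube_A0 x_mem A0 comm_A0 reps orb cover cover_spec reps_cover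
  ws5_ok ws5_mem orderOf_x)
open Cfsg.Agent.SuzThree.NormAct (smul_spec)
open Cfsg.Agent.SuzThree.CentA (cl el_mem_cl cl_le cl_mono)
open Cfsg.Agent.SuzThree.ThreeWr (y0 rep_y0)
open Cfsg.Agent.SporRec.SuzCl (Fx card_Fx_conj)
open Cfsg.Agent.CpAutSuz.Fix Cfsg.Agent.CpAutSuz.Gen Cfsg.Agent.CpAutSuz.Classes
open Cfsg.Agent.CpAutSuz.Five (msk mem_of_msk)

/-! ### The 3-part -/

theorem comm_of_odd {n x : Suz} (hn : Odd (orderOf n)) (h : n * x * n⁻¹ = x ∨ n * x * n⁻¹ = x⁻¹) : n * x = x * n := by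
  have h2 : Commute (n * n) x := by
    rcases h with h | h
    · have h3 : Commute n x := mul_inv_eq_iff_eq_mul.1 h
      exact h3.mul_left h3
    · have h3 : n * n * x * (n * n)⁻¹ = x := by
        calc n * n * x * (n * n)⁻¹ = n * (n * x * n⁻¹) * n⁻¹ := by group
          _ = n * x⁻¹ * n⁻¹ := by rw [h]
          _ = (n * x * n⁻¹)⁻¹ := by group
          _ = x := by rw [h, inv_inv]
      exact mul_inv_eq_iff_eq_mul.1 h3
  obtain ⟨k, hk⟩ := hn
  have h3 : n = ((n * n) ^ k)⁻¹ := by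
    have h4 : n ^ (2 * k + 1) = 1 := by rw [← hk, pow_orderOf_eq_one]
    rw [eq_inv_iff_mul_eq_one, ← pow_two, ← pow_mul, ← pow_succ', h4]
  rw [h3]
  exact ((h2.pow_left k).inv_left).eq

theorem exists_P : ∃ P : Subgroup Suz, 3 ^ 7 ∣ Nat.card P ∧ (∀ n ∈ P, n * x .i0 = x .i0 * n) ∧
    ∀ n ∈ P, n * x .i1 = x .i1 * n := by
  have hfin := finite_Suz
  have h3 : Fact (Nat.Prime 3) := ⟨Nat.prime_three⟩
  obtain ⟨Q⟩ : Nonempty (Sylow 3 SuzThree.SylowThree.K) := inferInstance
  have hodd : ∀ n ∈ (Q : Subgroup SuzThree.SylowThree.K), Odd (orderOf (n : Suz)) := by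
    intro n hn
    obtain ⟨k, hk⟩ := Q.2 ⟨n, hn⟩
    have h1 : (n : Suz) ^ 3 ^ k = 1 := congrArg (fun a : (Q : Subgroup SuzThree.SylowThree.K) =>
      ((a : SuzThree.SylowThree.K) : Suz)) hk
    exact Odd.of_dvd_nat ((by decide : Odd 3).pow) (orderOf_dvd_of_pow_eq_one h1)
  refine ⟨(Q : Subgroup SuzThree.SylowThree.K).map SuzThree.SylowThree.K.subtype, ?_, ?_, ?_⟩
  · rw [card_map_of_injective SuzThree.SylowThree.K.subtype_injective]
    exact Q.pow_dvd_card_of_pow_dvd_card SuzThree.SylowThree.card_dvd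
  · rintro _ ⟨n, hn, rfl⟩
    obtain ⟨h, hS⟩ := SuzThree.SylowThree.mem_K.1 n.2
    have h1 := smul_spec ⟨(n : Suz), h⟩ Ix.i0
    rw [(SuzThree.SylowThree.mem_S.1 hS).1] at h1
    exact comm_of_odd (hodd n hn) h1
  · rintro _ ⟨n, hn, rfl⟩
    obtain ⟨h, hS⟩ := SuzThree.SylowThree.mem_K.1 n.2
    have h1 := smul_spec ⟨(n : Suz), h⟩ Ix.i1
    rw [(SuzThree.SylowThree.mem_S.1 hS).2] at h1
    exact comm_of_odd (hodd n hn) h1

theorem dvd_y0 : 3 ^ 7 ∣ Nat.card (centralizer ({y0} : Set Suz)) := by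
  have hfin := finite_Suz
  obtain ⟨P, hP, h0, -⟩ := exists_P
  exact hP.trans (card_dvd_of_le fun n hn => mem_centralizer_singleton_iff.2 (h0 n hn))

theorem dvd_z1 : 3 ^ 7 ∣ Nat.card (centralizer ({z1} : Set Suz)) := by
  have hfin := finite_Suz
  obtain ⟨P, hP, h0, h1⟩ := exists_P
  refine hP.trans (card_dvd_of_le fun n hn => mem_centralizer_singleton_iff.2 ?_)
  exact (Commute.mul_right (h0 n hn) (h1 n hn)).eq

/-! ### Fixed points -/

theorem card_Fx_y0 : (Fx y0).card = 162 := card_Fx_rep rep_y0 (by decide +kernel)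
theorem card_Fx_z1 : (Fx z1).card = 0 := card_Fx_rep rep_z1 (by decide +kernel)

/-- an element `v` of prime order acting on a set of points of order prime to it fixes a point -/
theorem exists_fix_prime {l : ℕ} (hl : l.Prime) {v : Suz} (hv : orderOf v = l) (X : Finset ℕ)
    (hX : ∀ a ∈ X, φ v a ∈ X) (hm : ¬ l ∣ X.card) : ∃ a ∈ X, φ v a = a := by
  have : Fact l.Prime := ⟨hl⟩
  have hfin := finite_Suz
  have hp : IsPGroup l (zpowers v) := IsPGroup.of_card (n := 1) (by rw [Nat.card_zpowers, hv, pow_one])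
  obtain ⟨a, ha, h1⟩ := exists_fix hp X (m := 0) (fun q hq a ha => by
    obtain ⟨n, rfl⟩ := (mem_powers_iff_mem_zpowers.2 hq)
    show φ (v ^ n) a ∈ X
    induction n with
    | zero => rw [pow_zero, map_one]; exact ha
    | succ n ih => rw [pow_succ', φ_mul_apply]; exact hX _ (ih (by
        rw [← mem_powers_iff_mem_zpowers]
        exact ⟨n, rfl⟩))) (by simpa using hm)
  refine ⟨a, ha, ?_⟩
  rw [pow_zero, one_mul] at h1
  have h2 : zpowers v ⊓ stabL φ [a] = zpowers v := by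
    apply Subgroup.eq_of_le_of_card_ge inf_le_left
    exact Nat.le_of_dvd Nat.card_pos h1
  have h3 : v ∈ zpowers v ⊓ stabL φ [a] := by rw [h2]; exact mem_zpowers v
  exact mem_stab_pt.1 h3.2

/-- an element of order `l` in the centraliser -/
theorem exists_orderOf {l : ℕ} (hl : l.Prime) {s : Suz} (h : l ∣ Nat.card (centralizer ({s} : Set Suz))) :
    ∃ v : Suz, orderOf v = l ∧ v * s = s * v := by
  have : Fact l.Prime := ⟨hl⟩
  have hfin := finite_Suz
  obtain ⟨v, hv⟩ := exists_prime_orderOf_dvd_card' (G := centralizer ({s} : Set Suz)) l h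
  exact ⟨v, by rw [Subgroup.orderOf_coe, hv], mem_centralizer_singleton_iff.1 v.2⟩

theorem orderOf_y0 : orderOf y0 = 3 := orderOf_x .i0

theorem orderOf_z1 : orderOf z1 = 3 := by
  have : Fact (Nat.Prime 3) := ⟨Nat.prime_three⟩
  refine orderOf_eq_prime (cube_A0 (A0.mul_mem (x_mem _) (x_mem _))) ?_
  intro h
  have h1 := card_Fx_z1
  rw [h] at h1
  have h2 : 0 ∈ Fx (1 : Suz) := mem_Fx.2 ⟨by norm_num, by rw [map_one]; rfl⟩
  rw [Finset.card_eq_zero] at h1
  rw [h1] at h2
  simp at h2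

theorem no_fix_z1 {a : ℕ} (ha : a < 1782) (h : φ z1 a = a) : False := by
  have h2 : a ∈ Fx z1 := mem_Fx.2 ⟨ha, h⟩
  have h1 := card_Fx_z1
  rw [Finset.card_eq_zero] at h1
  rw [h1] at h2
  simp at h2

theorem z1_7 : ¬ 7 ∣ Nat.card (centralizer ({z1} : Set Suz)) := by
  intro h
  obtain ⟨v, hv, hc⟩ := exists_orderOf (by norm_num) h
  obtain ⟨a, ha, h1⟩ := exists_fix_prime Nat.prime_three orderOf_z1 (Fx v)
    (fun a ha => φ_fix_of_comm hc.symm ha) (by rw [card_Fx_seven hv]; norm_num)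
  exact no_fix_z1 (mem_Fx.1 ha).1 h1

theorem z1_13 : ¬ 13 ∣ Nat.card (centralizer ({z1} : Set Suz)) := by
  intro h
  obtain ⟨v, hv, hc⟩ := exists_orderOf (by norm_num) h
  obtain ⟨a, ha, h1⟩ := exists_fix_prime Nat.prime_three orderOf_z1 (Fx v)
    (fun a ha => φ_fix_of_comm hc.symm ha) (by rw [card_Fx_thirteen hv]; norm_num)
  exact no_fix_z1 (mem_Fx.1 ha).1 h1

theorem y0_11 : ¬ 11 ∣ Nat.card (centralizer ({y0} : Set Suz)) := by
  intro h
  obtain ⟨v, hv, hc⟩ := exists_orderOf (by norm_num) h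
  obtain ⟨a, ha, h1⟩ := exists_fix_prime (by norm_num) hv (Fx y0)
    (fun a ha => φ_fix_of_comm hc ha) (by rw [card_Fx_y0]; norm_num)
  exact no_fix (l := 11) (by norm_num) hv (mem_Fx.1 ha).1 h1

theorem y0_13 : ¬ 13 ∣ Nat.card (centralizer ({y0} : Set Suz)) := by
  intro h
  obtain ⟨v, hv, hc⟩ := exists_orderOf (by norm_num) h
  obtain ⟨a, ha, h1⟩ := exists_fix_prime Nat.prime_three orderOf_y0 (Fx v)
    (fun a ha => φ_fix_of_comm hc.symm ha) (by rw [card_Fx_thirteen hv]; norm_num)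
  have ha' : a ∈ Fx y0 := mem_Fx.2 ⟨(mem_Fx.1 ha).1, h1⟩
  obtain ⟨b, hb, h2⟩ := exists_fix_prime (by norm_num) hv ((Fx y0).erase a)
    (fun b hb => by
      rw [Finset.mem_erase] at hb ⊢
      refine ⟨fun h => hb.1 ?_, φ_fix_of_comm hc hb.2⟩
      have h3 := (mem_Fx.1 ha).2
      exact (φ v).injective (h.trans h3.symm)) (by
      rw [Finset.card_erase_of_mem ha', card_Fx_y0]; norm_num)
  rw [Finset.mem_erase] at hb
  have h3 : b ∈ Fx v := mem_Fx.2 ⟨(mem_Fx.1 hb.2).1, h2⟩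
  obtain ⟨c, hc'⟩ := Finset.card_eq_one.1 (card_Fx_thirteen hv)
  rw [hc', Finset.mem_singleton] at ha h3
  exact hb.1 (h3.trans ha.symm)

/-! ### The graph and `z1` -/

/-- adjacency -/
def rel (p q : ℕ) : Prop := ∃ h : Suz, φ h 0 = p ∧ U2.testBit (φ h⁻¹ q) = true

theorem rel_iff {h : Suz} {p q : ℕ} (hp : φ h 0 = p) : rel p q ↔ U2.testBit (φ h⁻¹ q) = true := by
  constructor
  · rintro ⟨k, hk, h1⟩
    have h2 : φ (h⁻¹ * k) 0 = 0 := by
      rw [φ_mul_apply, hk]
      exact φ_inv_apply hp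
    rw [← U2_inv h2, φ_mul_apply] at h1
    have h3 : φ k (φ k⁻¹ q) = q := by
      have := φ_inv_apply (g := k⁻¹) (p := q) rfl
      rwa [inv_inv] at this
    rwa [h3] at h1
  · exact fun h1 => ⟨h, hp, h1⟩

theorem rel_map {p q : ℕ} (g : Suz) (h : rel p q) : rel (φ g p) (φ g q) := by
  obtain ⟨k, hk, h1⟩ := h
  refine ⟨g * k, by rw [φ_mul_apply, hk], ?_⟩
  rw [mul_inv_rev, φ_mul_apply, φ_inv_apply (g := g) (p := q) rfl]
  exact h1

/-- representatives `p` of the orbits of `A0`: word of an element moving 0 to `p`, relative position of `z1 p` -/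
def tabR : List (ℕ × List Suz.Gen × ℕ) := [
  (0, [], 1416),
  (6, [.b, .a, .b, .g], 1598),
  (14, [.e, .d, .c, .b, .g], 580),
  (23, [.e, .d, .c, .a, .b, .g], 1629),
  (25, [.e, .c, .d, .c, .b, .g], 699),
  (27, [.f, .e, .d, .c, .b, .g], 857),
  (33, [.e, .d, .c, .b, .a, .b, .g], 231),
  (38, [.e, .d, .b, .c, .a, .b, .g], 1054),
  (41, [.e, .c, .d, .c, .a, .b, .g], 582),
  (43, [.e, .b, .c, .d, .c, .b, .g], 603),
  (45, [.d, .e, .c, .d, .c, .b, .g], 1576),
  (46, [.f, .e, .c, .d, .c, .b, .g], 518),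
  (48, [.b, .f, .e, .d, .c, .b, .g], 188),
  (56, [.e, .c, .d, .c, .b, .a, .b, .g], 682),
  (57, [.e, .d, .a, .b, .c, .a, .b, .g], 580),
  (61, [.e, .c, .d, .b, .c, .a, .b, .g], 1052),
  (63, [.f, .e, .d, .b, .c, .a, .b, .g], 563),
  (65, [.e, .b, .c, .d, .c, .a, .b, .g], 363),
  (72, [.f, .e, .b, .c, .d, .c, .b, .g], 564),
  (74, [.c, .d, .e, .c, .d, .c, .b, .g], 870),
  (76, [.b, .f, .e, .c, .d, .c, .b, .g], 142),
  (77, [.c, .b, .f, .e, .d, .c, .b, .g], 1077)]

/-- the four orbits -/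
def four : List ℕ := [0, 6, 23, 45]

noncomputable def chkR (t : ℕ × List Suz.Gen × ℕ) : Bool :=
  and (mv (wd t.2.1) 0 t.1) (and (mv (wd t.2.1.reverse ++ ([x0N, x1N] ++ wd t.2.1)) 0 t.2.2)
    (or (and (tb U2 t.2.2) (four.any fun p => Nat.beq p t.1)) (and (not (tb U2 t.2.2)) (not (four.any fun p => Nat.beq p t.1)))))

theorem chkR_all : ∀ t ∈ tabR, chkR t = true := by decide +kernel

theorem of_chkR {t : ℕ × List Suz.Gen × ℕ} (h : chkR t = true) : rel t.1 (φ z1 t.1) ↔ t.1 ∈ four := by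
  simp only [chkR, Bool.and_eq_true, Bool.or_eq_true] at h
  obtain ⟨h1, h2, h3⟩ := h
  have e1 : φ (el t.2.1) 0 = t.1 := (Rep.el _).pt h1
  have e2 : φ ((el t.2.1)⁻¹ * (z1 * el t.2.1)) 0 = t.2.2 := by
    rw [← el_reverse]
    exact ((Rep.el _).mul (rep_z1.mul (Rep.el _))).pt h2
  rw [rel_iff e1]
  rw [φ_mul_apply, φ_mul_apply, e1] at e2
  rw [e2, ← tb_eq]
  have hmem : (four.any fun p => Nat.beq p t.1) = true ↔ t.1 ∈ four := by
    rw [List.any_eq_true]
    constructor
    · rintro ⟨p, hp, h4⟩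
      rw [← Nat.eq_of_beq_eq_true h4]; exact hp
    · intro h4
      exact ⟨_, h4, Nat.beq_refl _⟩
  rw [← hmem]
  rcases h3 with ⟨h4, h5⟩ | ⟨h4, h5⟩
  · rw [h4, h5]
  · simp only [Bool.not_eq_true'] at h4 h5
    rw [h4, h5]

theorem tabR_reps : reps.map Prod.fst = tabR.map Prod.fst := by decide

theorem rel_rep {a : ℕ × Ix} (ha : a ∈ reps) : rel a.1 (φ z1 a.1) ↔ a.1 ∈ four := by
  have h1 : a.1 ∈ tabR.map Prod.fst := by
    rw [← tabR_reps]; exact List.mem_map_of_mem ha
  obtain ⟨t, ht, h2⟩ := List.mem_map.1 h1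
  rw [← h2]
  exact of_chkR (chkR_all t ht)

theorem rel_A0 {a : Suz} (ha : a ∈ A0) {p : ℕ} : rel (φ a p) (φ z1 (φ a p)) ↔ rel p (φ z1 p) := by
  have hz : z1 ∈ A0 := A0.mul_mem (x_mem _) (x_mem _)
  have hc : ∀ {b : Suz}, b ∈ A0 → ∀ q, φ z1 (φ b q) = φ b (φ z1 q) := by
    intro b hb q
    rw [← φ_mul_apply, comm_A0 hz hb, φ_mul_apply]
  constructor
  · intro h
    have h1 := rel_map a⁻¹ h
    rw [← hc (A0.inv_mem ha), φ_inv_apply (g := a) (p := p) rfl] at h1
    exact h1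
  · intro h
    rw [hc ha]
    exact rel_map a h

/-- the union of the four orbits -/
noncomputable def X4 : ℕ := Nat.lor (orb 0) (Nat.lor (orb 6) (Nat.lor (orb 23) (orb 45)))

theorem pc4 : Nat.beq (pc 11 X4) 324 = true := by decide +kernel
theorem lt4 : Nat.beq (Nat.shiftRight X4 (Nat.pow 2 11)) 0 = true := by decide +kernel
theorem sub4 : Nat.beq (Nat.land X4 U0) X4 = true := by decide +kernel

theorem testBit_X4 (p : ℕ) : X4.testBit p = true ↔ ∃ r ∈ four, (orb r).testBit p = true := by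
  show (orb 0 ||| (orb 6 ||| (orb 23 ||| orb 45))).testBit p = true ↔ _
  rw [Nat.testBit_or, Nat.testBit_or, Nat.testBit_or]
  simp [four]

open Classical in
/-- the points moved by `z1` to an adjacent point -/
noncomputable def D1 : Finset ℕ := (Finset.range 1782).filter fun p => rel p (φ z1 p)

open Classical in
theorem mem_D1 {p : ℕ} : p ∈ D1 ↔ p < 1782 ∧ rel p (φ z1 p) := by
  unfold D1
  rw [Finset.mem_filter, Finset.mem_range]

theorem exists_b {r p : ℕ} (h : (orb r).testBit p = true) : ∃ b ∈ A0, φ b r = p := by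
  obtain ⟨g, ⟨b, hb, rfl⟩, hg⟩ := sat_point_spec (K := A0.map φ) ws5_ok (fun w hw => ws5_mem hw) 2 h
  exact ⟨b, hb, hg⟩

theorem D1_eq : D1 = bits (2 ^ 11) X4 := by
  ext p
  rw [mem_D1, mem_bits]
  constructor
  · rintro ⟨hp, h⟩
    refine ⟨lt_of_lt_of_le hp (by norm_num), ?_⟩
    have h1 : (cover reps).testBit p = true := by
      rw [Nat.eq_of_beq_eq_true reps_cover, U0_bits, decide_eq_true_eq]; exact hp
    obtain ⟨a, ha, h2⟩ := cover_spec h1
    obtain ⟨b, hb, rfl⟩ := exists_b h2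
    rw [rel_A0 hb, rel_rep ha] at h
    exact (testBit_X4 _).2 ⟨_, h, h2⟩
  · rintro ⟨-, h⟩
    have hp : p < 1782 := by
      have h1 : (X4 &&& U0) = X4 := Nat.eq_of_beq_eq_true sub4
      rw [← h1, Nat.testBit_and, Bool.and_eq_true, U0_bits, decide_eq_true_eq] at h
      exact h.2
    refine ⟨hp, ?_⟩
    obtain ⟨r, hr, h2⟩ := (testBit_X4 _).1 h
    obtain ⟨b, hb, rfl⟩ := exists_b h2
    rw [rel_A0 hb]
    have h3 : r ∈ reps.map Prod.fst := by
      simp only [four, List.mem_cons, List.not_mem_nil, or_false] at hr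
      rcases hr with rfl | rfl | rfl | rfl <;> decide
    obtain ⟨a, ha, rfl⟩ := List.mem_map.1 h3
    exact (rel_rep ha).2 hr

theorem card_D1 : D1.card = 324 := by
  rw [D1_eq, ← pc_eq 11 X4 (SuzThree.CentB.lt_of_chk lt4)]
  exact Nat.eq_of_beq_eq_true pc4

theorem z1_11 : ¬ 11 ∣ Nat.card (centralizer ({z1} : Set Suz)) := by
  intro h
  obtain ⟨v, hv, hc⟩ := exists_orderOf (by norm_num) h
  obtain ⟨a, ha, h1⟩ := exists_fix_prime (by norm_num) hv D1
    (fun a ha => by
      rw [mem_D1] at ha ⊢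
      refine ⟨φ_lt a ha.1, ?_⟩
      rw [← φ_mul_apply, ← hc, φ_mul_apply]
      exact rel_map v ha.2) (by rw [card_D1]; norm_num)
  exact no_fix (l := 11) (by norm_num) hv (mem_D1.1 ha).1 h1

/-! ### The third class -/

def r1 : List Suz.Gen := [.d, .c, .d, .b, .c, .d, .c, .b, .a, .b, .c, .d, .a, .b, .c, .b, .a, .b, .a]
def r2 : List Suz.Gen := [.g, .b, .c, .d, .c, .b, .g, .f, .b, .c, .d, .c, .b, .f]

/-- an elementary abelian 3-subgroup -/
noncomputable def R0 : Subgroup Suz := cl [v1, v2, r1, r2]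

noncomputable def chkC (v w : List Suz.Gen) : Bool := checkEq 11 (wd v ++ wd w) (wd w ++ wd v)

theorem R0_words : ∀ v ∈ [v1, v2, r1, r2], ∀ w ∈ [v1, v2, r1, r2], el v * el w = el w * el v := by
  have h : ∀ v ∈ [v1, v2, r1, r2], ∀ w ∈ [v1, v2, r1, r2], chkC v w = true := by decide +kernel
  exact fun v hv w hw => eq_of_reps ((Rep.el v).mul (Rep.el w)) ((Rep.el w).mul (Rep.el v)) (h v hv w hw)

theorem R0_comm : ∀ a ∈ R0, ∀ b ∈ R0, a * b = b * a := cl_comm R0_words

theorem R0_pow : ∀ a ∈ R0, a ^ 3 = 1 := cl_pow R0_words (by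
  have h : ∀ v ∈ [v1, v2, r1, r2], checkEq 11 (wd v ++ (wd v ++ wd v)) [] = true := by decide +kernel
  intro v hv
  rw [pow_succ', pow_two]
  exact eq_of_reps ((Rep.el v).mul ((Rep.el v).mul (Rep.el v))) Rep.one (h v hv))

theorem R0_isPGroup : IsPGroup 3 R0 := isPGroup_of_pow R0_pow

theorem t1_mem : t1 ∈ R0 := el_mem_cl (by simp)

theorem card_R0 : 81 ≤ Nat.card R0 := card_cl_ge 14 81 6 (by decide +kernel) (by decide +kernel)

end Cfsg.Agent.CpAutSuz.Local

end
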